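import Cfsg.Agent.Lib.Tw2E6Sub.Iso
import Cfsg.Agent.Lib.ChevAut.Coef
import Cfsg.Agent.Lib.Chevalley.CharDiag2

/-!
# Diagonal elements scaling the root elements, and the centraliser of the rational points in their cosets
-/

set_option autoImplicit false
set_option maxRecDepth 1000000
set_option linter.unusedSectionVars false
set_option linter.unusedVariables false
set_option linter.unusedSimpArgs false

universe u

namespace Cfsg.Agent.Lib.Tw2E6Sub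

open Cfsg.Lie Cfsg.Agent.Lib.ChevBN.Elem Cfsg.Agent.Lib.ChevBN.Table Cfsg.Agent.Lib.ChevBN.Rel
open Cfsg.Agent.Lib.ChevBN.FastData Cfsg.Agent.Lib.ChevBN.Fix Cfsg.Agent.Lib.ChevBN.Collect
open Cfsg.Agent.Lib.ChevBN.Opp Cfsg.Agent.Lib.ChevBN.Monomial Cfsg.Agent.Lib.ChevBN.Pair
open Cfsg.Agent.Lib.ChevBN.Torus Cfsg.Agent.Lib.ChevBN.Stmts Cfsg.Agent.Lib.ChevBN.BruhatForm
open Cfsg.Agent.Lib.ChevOrder.Chev Cfsg.Agent.Lib.BNPair.Basic Cfsg.Agent.Lib.BNPair.Parabolic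
open Cfsg.Agent.Lib.Twisted Cfsg.Agent.Lib.Twisted.E6 Cfsg.Agent.Lib.Tw2E6Max
open Cfsg.Agent.Lib.Chevalley.Tbl.E6 (sys comm)

variable {K : Type u} [Field K]

set_option quotPrecheck false in
/-- The root elements. -/
local notation "Xr" => X (sys (F := _)).toAddRel

/-- The element scales every root element. -/
def Sc (d : GL chevE6.Idx K) : Prop :=
  ∀ r < chevE6.nroots, ∃ κ : K, κ ≠ 0 ∧ ∀ t, d * Xr r t * d⁻¹ = Xr r (κ * t)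

theorem Sc.inv {d : GL chevE6.Idx K} (h : Sc d) : Sc d⁻¹ := by
  intro r hr
  obtain ⟨κ, hκ, h1⟩ := h r hr
  refine ⟨κ⁻¹, inv_ne_zero hκ, fun t => ?_⟩
  have e := h1 (κ⁻¹ * t)
  rw [mul_inv_cancel_left₀ hκ] at e
  rw [← e]
  group

theorem Sc.conj_N {d n : GL chevE6.Idx K} (h : Sc d) (hn : n ∈ chevE6.monomialSubgroup K) : Sc (n⁻¹ * d * n) := by
  intro r hr
  obtain ⟨κ₁, hκ₁, h1⟩ := pn_conj sys tbl_chevE6 hn ⟨r, hr⟩
  obtain ⟨κ₂, hκ₂, h2⟩ := h _ (pn sys tbl_chevE6 hn ⟨r, hr⟩).isLt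
  refine ⟨κ₂, hκ₂, fun t => ?_⟩
  have e1 : n⁻¹ * Xr (pn sys tbl_chevE6 hn ⟨r, hr⟩).val (κ₁ * (κ₂ * t)) * n = Xr r (κ₂ * t) := by
    rw [← h1]
    group
  calc n⁻¹ * d * n * Xr r t * (n⁻¹ * d * n)⁻¹
      = n⁻¹ * (d * (n * Xr r t * n⁻¹) * d⁻¹) * n := by group
    _ = n⁻¹ * Xr (pn sys tbl_chevE6 hn ⟨r, hr⟩).val (κ₁ * (κ₂ * t)) * n := by
        rw [h1, h2]
        congr 3
        ring
    _ = _ := e1

theorem Sc.U {d u : GL chevE6.Idx K} (h : Sc d) (hu : u ∈ chevE6.posUnipotent K) : d * u * d⁻¹ ∈ chevE6.posUnipotent K := by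
  rw [posUnipotent_eq (sys (F := K)).toAddRel] at hu ⊢
  refine gen_induction (sys (F := K)).toAddRel (P := fun u => d * u * d⁻¹ ∈ gen (sys (F := K)).toAddRel {r | chevE6.IsPosRoot r})
    (by simp) ?_ ?_ hu
  · intro r hr t
    obtain ⟨κ, -, h1⟩ := h r hr.1
    rw [h1]
    exact X_mem_gen _ hr _
  · intro a b ha hb
    have e : d * (a * b) * d⁻¹ = (d * a * d⁻¹) * (d * b * d⁻¹) := by group
    rw [e]
    exact Subgroup.mul_mem _ ha hb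

section Main

variable [Fintype K] {q : ℕ} {φ : K →+* K} {T : Tw (sys (F := K)).toAddRel}
  (I : Inst sys tbl_chevE6 T Js cl (twistedE6 K q))

include I in
/-- An element of a coset commuting with a nontrivial element of a fundamental orbit. -/
theorem key_B' {d c : GL chevE6.Idx K} (hd : Sc d) (hc : c ∈ twistedE6 K q) {a₁ a₂ a₃ a₃' a₄ a₄' : K} (h₁ : a₁ ≠ 0) (h₂ : a₂ ≠ 0)
    (h₃ : a₃ ≠ 0) (h₄ : a₄ ≠ 0)
    (c1 : Commute (d * c) (Xr 46 a₁)) (c2 : Commute (d * c) (Xr 39 a₂)) (c3 : Commute (d * c) (Xr 36 a₃ * Xr 56 a₃'))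
    (c4 : Commute (d * c) (Xr 37 a₄ * Xr 42 a₄')) : c ∈ chevE6.borelSubgroup K := by
  obtain ⟨b, hb, n, hnN, hnG, v, hv, rfl⟩ := tnf' I hc
  by_contra hcB
  have hnH : n ∉ chevE6.diagonalSubgroup K := fun h =>
    hcB (Subgroup.mul_mem _ (Subgroup.mul_mem _ hb (H_le_B sys tbl_chevE6 h)) (U_le_B sys tbl_chevE6 (Un_le_U sys tbl_chevE6 _ hv)))
  obtain ⟨i, hi⟩ := exists_simple_neg sys tbl_chevE6 hnN hnH
  obtain ⟨j, hj⟩ := I.fd.cover i i.2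
  have hneg : ∀ r : Fin chevE6.nroots, r.val ∈ I.fd.Ψ j → ¬ chevE6.IsPosRoot (pn sys tbl_chevE6 hnN r) := by
    rcases I.fd.dich j n hnN hnG with h | h
    · exact absurd (h _ hj) hi
    · exact h
  have hΨ : ∀ r ∈ I.fd.Ψ j, chevE6.IsPosRoot r := by
    rintro r ⟨i', hi', rfl⟩
    exact tbl_chevE6.simple_pos i' (I.orth.lt _ j.2 i' hi')
  have hUn : gen (sys (F := K)).toAddRel (I.fd.Ψ j) ≤ Un chevE6 K n := by
    refine gen_le (hA := (sys (F := K)).toAddRel) ?_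
    intro r hr t
    apply Subgroup.subset_closure
    refine ⟨r, t, hΨ r hr, ?_, coe_X _ _ _⟩
    rw [Subgroup.map_le_iff_le_comap, rootSubgroup_eq (sys (F := K)).toAddRel]
    refine gen_le _ ?_
    intro r' hr' t'
    rw [Set.mem_singleton_iff] at hr'
    rw [hr', Subgroup.mem_comap]
    show n * Xr r t' * n⁻¹ ∈ chevE6.negUnipotent K
    have hrl := (hΨ r hr).1
    obtain ⟨κ, -, h1⟩ := pn_conj sys tbl_chevE6 hnN ⟨r, hrl⟩
    rw [h1 t', negUnipotent_eq (sys (F := K)).toAddRel]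
    apply X_mem_gen
    show chevE6.IsNegRoot _
    rcases tbl_chevE6.pos_or_neg (pn sys tbl_chevE6 hnN ⟨r, hrl⟩).isLt with h3 | h3
    · exact absurd h3 (hneg _ hr)
    · exact h3
  have key : ∀ x ∈ gen (sys (F := K)).toAddRel (I.fd.Ψ j), Commute (d * (b * n * v)) x → x = 1 := by
    intro x hx hcx
    have hxU : x ∈ chevE6.posUnipotent K := Un_le_U sys tbl_chevE6 _ (hUn hx)
    have hy : v * x * v⁻¹ ∈ Un chevE6 K n :=
      Subgroup.mul_mem _ (Subgroup.mul_mem _ hv (hUn hx)) (Subgroup.inv_mem _ hv)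
    have h1 := conj_Un_le sys tbl_chevE6 hy
    have e : n * (v * x * v⁻¹) * n⁻¹ = b⁻¹ * (d⁻¹ * x * d⁻¹⁻¹) * b⁻¹⁻¹ := by
      have e2 : (d * (b * n * v)) * x * (d * (b * n * v))⁻¹ = x := by rw [hcx.eq, mul_inv_cancel_right]
      calc n * (v * x * v⁻¹) * n⁻¹ = b⁻¹ * (d⁻¹ * ((d * (b * n * v)) * x * (d * (b * n * v))⁻¹) * d⁻¹⁻¹) * b⁻¹⁻¹ := by group
        _ = _ := by rw [e2]
    have h2 : n * (v * x * v⁻¹) * n⁻¹ ∈ chevE6.borelSubgroup K ⊓ chevE6.negUnipotent K := by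
      refine ⟨?_, h1⟩
      rw [e]
      exact U_le_B sys tbl_chevE6 (B_conj_U (Subgroup.inv_mem _ hb) (hd.inv.U hxU))
    rw [B_inf_V sys tbl_chevE6, Subgroup.mem_bot] at h2
    have h3 : v * x * v⁻¹ = 1 := by
      have := congrArg (fun z => n⁻¹ * z * n) h2
      simpa [mul_assoc] using this
    have h4 := congrArg (fun z => v⁻¹ * z * v) h3
    simpa [mul_assoc] using h4
  obtain ⟨e0, e1, e2, e3, e4, e5⟩ := e_s
  have hm : ∀ {i' : ℕ} {J : List ℕ}, j.1 = J → i' ∈ J → chevE6.simple i' ∈ I.fd.Ψ j := by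
    intro i' J hJ hi'
    exact ⟨i', hJ ▸ hi', rfl⟩
  have hJ := j.2
  simp only [Js, List.mem_cons, List.not_mem_nil, or_false] at hJ
  rcases hJ with hJ | hJ | hJ | hJ
  · have h5 := key (Xr 46 a₁) (X_mem_gen _ (e1 ▸ hm (i' := 1) hJ (by simp)) _) c1
    exact h₁ (Cfsg.Agent.Lib.ChevBN.Fix.X_inj sys tbl_chevE6 (by decide +kernel) (h5.trans (X_zero _ _).symm))
  · have h5 := key (Xr 39 a₂) (X_mem_gen _ (e3 ▸ hm (i' := 3) hJ (by simp)) _) c2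
    exact h₂ (Cfsg.Agent.Lib.ChevBN.Fix.X_inj sys tbl_chevE6 (by decide +kernel) (h5.trans (X_zero _ _).symm))
  · have h5 := key (Xr 36 a₃ * Xr 56 a₃') (Subgroup.mul_mem _ (X_mem_gen _ (e5 ▸ hm (i' := 5) hJ (by simp)) _)
      (X_mem_gen _ (e0 ▸ hm (i' := 0) hJ (by simp)) _)) c3
    have h6 : Xr 36 a₃ = Xr 56 (-a₃') := by
      rw [← X_inv]
      exact eq_inv_of_mul_eq_one_left h5
    have h7 := Cfsg.Agent.Lib.ChevBN.GraphFix.X_root_inj (sys (F := K)) tbl_chevE6 (a := 36) (b := 56) (by decide +kernel) (by decide +kernel) h₃ h6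
    omega
  · have h5 := key (Xr 37 a₄ * Xr 42 a₄') (Subgroup.mul_mem _ (X_mem_gen _ (e4 ▸ hm (i' := 4) hJ (by simp)) _)
      (X_mem_gen _ (e2 ▸ hm (i' := 2) hJ (by simp)) _)) c4
    have h6 : Xr 37 a₄ = Xr 42 (-a₄') := by
      rw [← X_inv]
      exact eq_inv_of_mul_eq_one_left h5
    have h7 := Cfsg.Agent.Lib.ChevBN.GraphFix.X_root_inj (sys (F := K)) tbl_chevE6 (a := 37) (b := 42) (by decide +kernel) (by decide +kernel) h₄ h6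
    omega

/-- The value of `chi` on a root. -/
theorem chi_eq (c : ℕ → K) (s : ℕ) {e₀ e₁ e₂ e₃ e₄ e₅ : ℤ}
    (h : [chevE6.cartan 0 s, chevE6.cartan 1 s, chevE6.cartan 2 s, chevE6.cartan 3 s, chevE6.cartan 4 s, chevE6.cartan 5 s] =
      [e₀, e₁, e₂, e₃, e₄, e₅]) :
    chi chevE6 c s = c 0 ^ e₀ * (c 1 ^ e₁ * (c 2 ^ e₂ * (c 3 ^ e₃ * (c 4 ^ e₄ * (c 5 ^ e₅ * 1))))) := by
  simp only [List.cons.injEq, and_true] at h
  obtain ⟨rfl, rfl, rfl, rfl, rfl, rfl⟩ := h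
  have hr : chevE6.rank = 6 := rfl
  simp [chi, hr, List.range_succ, mul_assoc]

include I in
/-- No element of a coset centralises the rational points. -/
theorem no_cent {d g : GL chevE6.Idx K} (hd : Sc d) {a : K} (ha : a ≠ 1) (ha0 : a ≠ 0)
    (h46 : ∀ t, d * Xr 46 t * d⁻¹ = Xr 46 t) (h39 : ∀ t, d * Xr 39 t * d⁻¹ = Xr 39 t)
    (h42 : ∀ t, d * Xr 42 t * d⁻¹ = Xr 42 t) (h37 : ∀ t, d * Xr 37 t * d⁻¹ = Xr 37 t)
    (h56 : ∀ t, d * Xr 56 t * d⁻¹ = Xr 56 (a * t)) (h36 : ∀ t, d * Xr 36 t * d⁻¹ = Xr 36 (a⁻¹ * t))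
    (hK3 : ∀ x : K, x ≠ 0 → x ^ 3 = 1)
    (hg : g ∈ twistedE6 K q) {S : Subgroup (GL chevE6.Idx K)} (hS : ∀ m ∈ S, Commute (d * g) m)
    (m46 : Xr 46 (1 : K) ∈ S) (m39 : Xr 39 (1 : K) ∈ S) (m36 : Xr 36 (1 : K) * Xr 56 (1 : K) ∈ S)
    (m37 : Xr 37 (1 : K) * Xr 42 (1 : K) ∈ S) (mNs : (Ns : GL chevE6.Idx K) ∈ S)
    (hNsG : (Ns : GL chevE6.Idx K) ∈ twistedE6 K q) : False := by
  have hB := key_B' I hd hg (a₁ := 1) (a₂ := 1) (a₃ := 1) (a₄ := 1) one_ne_zero one_ne_zero one_ne_zero one_ne_zero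
    (hS _ m46) (hS _ m39) (hS _ m36) (hS _ m37)
  have hd' : Sc ((Ns : GL chevE6.Idx K)⁻¹ * d * Ns) := hd.conj_N Ns_N
  have hg' : (Ns : GL chevE6.Idx K)⁻¹ * g * Ns ∈ twistedE6 K q :=
    Subgroup.mul_mem _ (Subgroup.mul_mem _ (Subgroup.inv_mem _ hNsG) hg) hNsG
  have hS' : ∀ m ∈ S, Commute (((Ns : GL chevE6.Idx K)⁻¹ * d * Ns) * ((Ns : GL chevE6.Idx K)⁻¹ * g * Ns)) m := by
    intro m hm
    have h1 := (hS _ (Subgroup.mul_mem _ (Subgroup.mul_mem _ mNs hm) (Subgroup.inv_mem _ mNs))).eq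
    show ((Ns : GL chevE6.Idx K)⁻¹ * d * Ns) * ((Ns : GL chevE6.Idx K)⁻¹ * g * Ns) * m = m * (((Ns : GL chevE6.Idx K)⁻¹ * d * Ns) * ((Ns : GL chevE6.Idx K)⁻¹ * g * Ns))
    calc ((Ns : GL chevE6.Idx K)⁻¹ * d * Ns) * ((Ns : GL chevE6.Idx K)⁻¹ * g * Ns) * m
        = (Ns : GL chevE6.Idx K)⁻¹ * ((d * g) * (Ns * m * Ns⁻¹)) * Ns := by group
      _ = (Ns : GL chevE6.Idx K)⁻¹ * ((Ns * m * Ns⁻¹) * (d * g)) * Ns := by rw [h1]
      _ = _ := by group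
  have hB' := key_B' I hd' hg' (a₁ := 1) (a₂ := 1) (a₃ := 1) (a₄ := 1) one_ne_zero one_ne_zero one_ne_zero one_ne_zero
    (hS' _ m46) (hS' _ m39) (hS' _ m36) (hS' _ m37)
  have hVH : g ∈ chevE6.negUnipotent K ⊔ chevE6.diagonalSubgroup K := by
    obtain ⟨u, hu, k, hk, e⟩ := (mem_B_iff sys tbl_chevE6).mp hB'
    have e2 : g = (Ns * u * Ns⁻¹) * (Ns * k * Ns⁻¹) := by
      have : g = Ns * (Ns⁻¹ * g * Ns) * Ns⁻¹ := by group
      rw [this, e]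
      group
    rw [e2]
    exact Subgroup.mul_mem_sup (Ns_U hu) (H_norm_N sys tbl_chevE6 Ns_N hk)
  have hH : g ∈ chevE6.diagonalSubgroup K := by
    rw [← B_inf_VH sys tbl_chevE6]
    exact ⟨hB, hVH⟩
  rw [diagonal_eq sys tbl_chevE6] at hH
  obtain ⟨c, hc, rfl⟩ := hH
  have hconj : ∀ {r : ℕ} (t : K), r < chevE6.nroots →
      (d * hP sys c) * Xr r t * (d * hP sys c)⁻¹ = d * Xr r (chi chevE6 c r * t) * d⁻¹ := by
    intro r t hr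
    rw [← hP_conj sys hc hr t]
    group
  have hfix : ∀ {x : GL chevE6.Idx K}, x ∈ S → (d * hP sys c) * x * (d * hP sys c)⁻¹ = x := fun {x} hx => by
    rw [(hS x hx).eq, mul_inv_cancel_right]
  have hpair : ∀ {p q' : ℕ} {x y : K}, p < q' → chevE6.IsPosRoot p → chevE6.IsPosRoot q' →
      (∀ t, d * Xr p t * d⁻¹ = Xr p (x * t)) → (∀ t, d * Xr q' t * d⁻¹ = Xr q' (y * t)) →
      Xr p (1 : K) * Xr q' (1 : K) ∈ S → x * chi chevE6 c p = 1 ∧ y * chi chevE6 c q' = 1 := by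
    intro p q' x y hpq hp hq' hx hy hm
    have e1 := hfix hm
    have e2 : (d * hP sys c) * (Xr p (1 : K) * Xr q' (1 : K)) * (d * hP sys c)⁻¹ =
        ((d * hP sys c) * Xr p (1 : K) * (d * hP sys c)⁻¹) * ((d * hP sys c) * Xr q' (1 : K) * (d * hP sys c)⁻¹) := by group
    rw [e2, hconj _ hp.1, hconj _ hq'.1, hx, hy] at e1
    obtain ⟨e3, e4⟩ := pair_eq hpq hp hq' e1
    simpa using And.intro e3 e4
  obtain ⟨k36, k56⟩ := hpair (p := 36) (q' := 56) (by decide) (by decide +kernel) (by decide +kernel) h36 h56 m36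
  obtain ⟨k37, k42⟩ := hpair (p := 37) (q' := 42) (x := 1) (y := 1) (by decide) (by decide +kernel) (by decide +kernel)
    (by simpa using h37) (by simpa using h42) m37
  rw [one_mul] at k37 k42
  have hc0 := hc 0 (by decide)
  have hc2 := hc 2 (by decide)
  have hc3 := hc 3 (by decide)
  have hc4 := hc 4 (by decide)
  have hc5 := hc 5 (by decide)
  have v56 := chi_eq c 56 (e₀ := 2) (e₁ := 0) (e₂ := -1) (e₃ := 0) (e₄ := 0) (e₅ := 0) (by decide +kernel)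
  have v42 := chi_eq c 42 (e₀ := -1) (e₁ := 0) (e₂ := 2) (e₃ := -1) (e₄ := 0) (e₅ := 0) (by decide +kernel)
  have v37 := chi_eq c 37 (e₀ := 0) (e₁ := 0) (e₂ := 0) (e₃ := -1) (e₄ := 2) (e₅ := -1) (by decide +kernel)
  have v36 := chi_eq c 36 (e₀ := 0) (e₁ := 0) (e₂ := 0) (e₃ := 0) (e₄ := -1) (e₅ := 2) (by decide +kernel)
  have key : chi chevE6 c 56 * chi chevE6 c 42 ^ 2 * chi chevE6 c 37 * chi chevE6 c 36 ^ 2 = 1 := by
    rw [v56, v42, v37, v36]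
    have e : c 0 ^ (2 : ℤ) * (c 1 ^ (0 : ℤ) * (c 2 ^ (-1 : ℤ) * (c 3 ^ (0 : ℤ) * (c 4 ^ (0 : ℤ) * (c 5 ^ (0 : ℤ) * 1))))) *
        (c 0 ^ (-1 : ℤ) * (c 1 ^ (0 : ℤ) * (c 2 ^ (2 : ℤ) * (c 3 ^ (-1 : ℤ) * (c 4 ^ (0 : ℤ) * (c 5 ^ (0 : ℤ) * 1)))))) ^ 2 *
        (c 0 ^ (0 : ℤ) * (c 1 ^ (0 : ℤ) * (c 2 ^ (0 : ℤ) * (c 3 ^ (-1 : ℤ) * (c 4 ^ (2 : ℤ) * (c 5 ^ (-1 : ℤ) * 1)))))) *
        (c 0 ^ (0 : ℤ) * (c 1 ^ (0 : ℤ) * (c 2 ^ (0 : ℤ) * (c 3 ^ (0 : ℤ) * (c 4 ^ (-1 : ℤ) * (c 5 ^ (2 : ℤ) * 1)))))) ^ 2 =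
        c 2 ^ 3 * (c 3 ^ 3)⁻¹ * c 5 ^ 3 := by
      simp only [zpow_zero, one_mul, mul_one, zpow_neg, zpow_one]
      norm_cast
      field_simp
    rw [e, hK3 _ hc2, hK3 _ hc3, hK3 _ hc5]
    simp
  have k56' : chi chevE6 c 56 = a⁻¹ := mul_left_cancel₀ ha0 (k56.trans (mul_inv_cancel₀ ha0).symm)
  have k36' : chi chevE6 c 36 = a := mul_left_cancel₀ (inv_ne_zero ha0) (k36.trans (inv_mul_cancel₀ ha0).symm)
  rw [k56', k42, k37, k36'] at key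
  apply ha
  have e : a⁻¹ * 1 ^ 2 * 1 * a ^ 2 = a := by
    field_simp
  rw [← e, key]

end Main

end Cfsg.Agent.Lib.Tw2E6Sub
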