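import Cfsg.Agent.Lib.Tw2E6Sub.Cent

/-!
# Three classes of subgroups `F₄(2)` in `²E₆(2)`
-/

set_option autoImplicit false
set_option maxRecDepth 1000000
set_option linter.unusedSectionVars false
set_option linter.unusedVariables false
set_option linter.unusedSimpArgs false

universe u

namespace Cfsg.Agent.Lib.Tw2E6Sub

open Cfsg.Lie Cfsg.Agent.Lib.ChevBN.Elem Cfsg.Agent.Lib.ChevBN.Table Cfsg.Agent.Lib.ChevBN.Rel
open Cfsg.Agent.Lib.ChevBN.FastData Cfsg.Agent.Lib.ChevBN.Fix Cfsg.Agent.Lib.ChevBN.Collect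
open Cfsg.Agent.Lib.ChevBN.Opp
open Cfsg.Agent.Lib.Chevalley.CharDiag
open Cfsg.Agent.Lib.Twisted Cfsg.Agent.Lib.Twisted.E6 Cfsg.Agent.Lib.Tw2E6Max
open Cfsg.Agent.Lib.Chevalley.Tbl.E6 (sys comm)

variable {K : Type u} [Field K]

set_option quotPrecheck false in
/-- The root elements. -/
local notation "Xr" => X (sys (F := _)).toAddRel

/-- The diagonal element of a character. -/
noncomputable def dd (χ : ℕ → Kˣ) : GL chevE6.Idx K :=
  ⟨chevE6.charDiag K χ, chevE6.charDiag K (fun s => (χ s)⁻¹), charDiag_mul_inv χ, by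
    have := charDiag_mul_inv (D := chevE6) (F := K) (fun s => (χ s)⁻¹)
    simpa using this⟩

theorem dd_coe (χ : ℕ → Kˣ) : ((dd χ : GL chevE6.Idx K) : Matrix chevE6.Idx chevE6.Idx K) = chevE6.charDiag K χ := rfl

section Dd

variable {χ : ℕ → Kˣ} (hχ : chevE6.IsRootCharacter χ)

include hχ

theorem dd_conj {r : ℕ} (hr : r < chevE6.nroots) (t : K) : dd χ * Xr r t * (dd χ)⁻¹ = Xr r ((χ r : K) * t) :=
  conj_X (sys (F := K)) tbl_chevE6 ck_E6 hχ (dd_coe χ) hr t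

theorem dd_pow_conj (k : ℕ) {r : ℕ} (hr : r < chevE6.nroots) (t : K) :
    dd χ ^ k * Xr r t * (dd χ ^ k)⁻¹ = Xr r ((χ r : K) ^ k * t) := by
  induction k with
  | zero => simp
  | succ k ih =>
    rw [pow_succ']
    calc (dd χ * dd χ ^ k) * Xr r t * (dd χ * dd χ ^ k)⁻¹
        = dd χ * (dd χ ^ k * Xr r t * (dd χ ^ k)⁻¹) * (dd χ)⁻¹ := by group
      _ = _ := by
        rw [ih, dd_conj hχ hr, pow_succ', mul_assoc]

theorem dd_pow_Sc (k : ℕ) : Sc (dd χ ^ k) := fun r hr =>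
  ⟨(χ r : K) ^ k, pow_ne_zero _ (χ r).ne_zero, fun t => dd_pow_conj hχ k hr t⟩

end Dd

theorem dd_map {φ : K →+* K} (hφ : ∀ t, φ t = t ^ 2) (χ : ℕ → Kˣ) : mapG chevE6 φ (dd χ) = dd χ * dd χ := by
  apply Units.ext
  rw [coe_mapG, Units.val_mul, dd_coe, ChevalleyDatum.charDiag, Matrix.diagonal_mul_diagonal, Matrix.diagonal_map (map_zero φ)]
  congr 1
  funext i
  rcases i with i | s
  · simp
  · simp [hφ, sq]

theorem dd_cube {χ : ℕ → Kˣ} (h3 : ∀ r, (χ r : K) ^ 3 = 1) : dd χ * dd χ * dd χ = 1 := by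
  apply Units.ext
  rw [Units.val_mul, Units.val_mul, dd_coe, ChevalleyDatum.charDiag, Matrix.diagonal_mul_diagonal, Matrix.diagonal_mul_diagonal,
    Units.val_one, ← Matrix.diagonal_one]
  congr 1
  funext i
  rcases i with i | s
  · simp
  · simp only [Sum.elim_inr]
    rw [← h3 s.val]
    ring

section Norm

variable {χ : ℕ → Kˣ} (hχ : chevE6.IsRootCharacter χ) {φ : K →+* K} (hφ : ∀ t, φ t = t ^ 2)
  (c46 : (χ 46 : K) = 1) (c25 : (χ 25 : K) = 1) (c39 : (χ 39 : K) = 1) (c32 : (χ 32 : K) = 1)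
  (c56 : φ (χ 56 : K) = (χ 36 : K)) (c15 : φ (χ 15 : K) = (χ 35 : K)) (c42 : φ (χ 42 : K) = (χ 37 : K))
  (c29 : φ (χ 29 : K) = (χ 34 : K))

include hχ in
theorem dd_w2 {a b : ℕ} (ha : a < chevE6.nroots) (hb : b < chevE6.nroots) (h : φ (χ a : K) = (χ b : K)) (t : K) :
    dd χ * w2 φ a b t * (dd χ)⁻¹ = w2 φ a b ((χ a : K) * t) := by
  have e : dd χ * w2 φ a b t * (dd χ)⁻¹ = (dd χ * Xr a t * (dd χ)⁻¹) * ((dd χ * Xr b (φ t) * (dd χ)⁻¹) * 1) := by
    simp only [w2]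
    group
  rw [e, dd_conj hχ ha, dd_conj hχ hb, w2, map_mul, h]

include hχ hφ c46 c25 c39 c32 c56 c15 c42 c29 in
theorem dd_norm {g : GL chevE6.Idx K} (hg : g ∈ twistedE6 K 2) : dd χ * g * (dd χ)⁻¹ ∈ twistedE6 K 2 := by
  have hle : twistedE6 K 2 ≤ (twistedE6 K 2).comap (MulAut.conj (dd χ)).toMonoidHom := by
    refine (Subgroup.closure_le _).2 ?_
    intro g hg
    show dd χ * g * (dd χ)⁻¹ ∈ twistedE6 K 2
    rcases gen_form hφ hg with ⟨t, ht, rfl | rfl | rfl | rfl⟩ | ⟨t, rfl | rfl | rfl | rfl⟩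
    · rw [dd_conj hχ (by decide +kernel), c46, one_mul]
      exact X_single_mem hφ (by simp [e6p2]) ht
    · rw [dd_conj hχ (by decide +kernel), c25, one_mul]
      exact X_single_mem hφ (by simp [e6m2]) ht
    · rw [dd_conj hχ (by decide +kernel), c39, one_mul]
      exact X_single_mem hφ (by simp [e6p4]) ht
    · rw [dd_conj hχ (by decide +kernel), c32, one_mul]
      exact X_single_mem hφ (by simp [e6m4]) ht
    · rw [dd_w2 hχ (by decide +kernel) (by decide +kernel) c56]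
      exact w2_mem hφ (rs := (56, 36)) (by simp [e6p1, e6p6]) _
    · rw [dd_w2 hχ (by decide +kernel) (by decide +kernel) c15]
      exact w2_mem hφ (rs := (15, 35)) (by simp [e6m1, e6m6]) _
    · rw [dd_w2 hχ (by decide +kernel) (by decide +kernel) c42]
      exact w2_mem hφ (rs := (42, 37)) (by simp [e6p3, e6p5]) _
    · rw [dd_w2 hχ (by decide +kernel) (by decide +kernel) c29]
      exact w2_mem hφ (rs := (29, 34)) (by simp [e6m3, e6m5]) _
  exact hle hg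

include hχ hφ c46 c25 c39 c32 c56 c15 c42 c29 in
theorem dd_pow_norm (k : ℕ) {g : GL chevE6.Idx K} (hg : g ∈ twistedE6 K 2) : dd χ ^ k * g * (dd χ ^ k)⁻¹ ∈ twistedE6 K 2 := by
  induction k with
  | zero => simpa using hg
  | succ k ih =>
    have e : dd χ ^ (k + 1) * g * (dd χ ^ (k + 1))⁻¹ = dd χ * (dd χ ^ k * g * (dd χ ^ k)⁻¹) * (dd χ)⁻¹ := by
      rw [pow_succ']
      group
    rw [e]
    exact dd_norm hχ hφ c46 c25 c39 c32 c56 c15 c42 c29 ih

end Norm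

section Small

variable (f : ZMod 2 →+* K) {φ : K →+* K} (hφ : ∀ t, φ t = t ^ 2)

/-- The rational points. -/
noncomputable def H0 : Subgroup (GL chevE6.Idx K) := (twistedE6 (ZMod 2) 2).map (mapG chevE6 f)

omit [Field K] in
theorem z2_cases (x : ZMod 2) : x = 0 ∨ x = 1 := by
  revert x
  decide

include hφ in
theorem fix_f (x : ZMod 2) : φ (f x) = f x := by
  rcases z2_cases x with rfl | rfl <;> simp

include hφ in
theorem H0_le : H0 f ≤ twistedE6 K 2 := by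
  have hle : twistedE6 (ZMod 2) 2 ≤ (twistedE6 K 2).comap (mapG chevE6 f) := by
    refine (Subgroup.closure_le _).2 ?_
    intro g hg
    show mapG chevE6 f g ∈ twistedE6 K 2
    have hF := fix_f f hφ
    rcases gen_form hφ₀ hg with ⟨t, ht, rfl | rfl | rfl | rfl⟩ | ⟨t, rfl | rfl | rfl | rfl⟩
    · rw [mapG_X _ (sys (F := ZMod 2)).toAddRel (sys (F := K)).toAddRel]
      exact X_single_mem hφ (by simp [e6p2]) (hF t)
    · rw [mapG_X _ (sys (F := ZMod 2)).toAddRel (sys (F := K)).toAddRel]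
      exact X_single_mem hφ (by simp [e6m2]) (hF t)
    · rw [mapG_X _ (sys (F := ZMod 2)).toAddRel (sys (F := K)).toAddRel]
      exact X_single_mem hφ (by simp [e6p4]) (hF t)
    · rw [mapG_X _ (sys (F := ZMod 2)).toAddRel (sys (F := K)).toAddRel]
      exact X_single_mem hφ (by simp [e6m4]) (hF t)
    all_goals
      simp only [w2, map_mul, map_one, mapG_X _ (sys (F := ZMod 2)).toAddRel (sys (F := K)).toAddRel]
    · have := w2_mem hφ (rs := (56, 36)) (by simp [e6p1, e6p6]) (f t)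
      simpa [w2, φ₀, hF] using this
    · have := w2_mem hφ (rs := (15, 35)) (by simp [e6m1, e6m6]) (f t)
      simpa [w2, φ₀, hF] using this
    · have := w2_mem hφ (rs := (42, 37)) (by simp [e6p3, e6p5]) (f t)
      simpa [w2, φ₀, hF] using this
    · have := w2_mem hφ (rs := (29, 34)) (by simp [e6m3, e6m5]) (f t)
      simpa [w2, φ₀, hF] using this
  rintro _ ⟨g, hg, rfl⟩
  exact hle hg

include hφ in
theorem H0_fix {m : GL chevE6.Idx K} (hm : m ∈ H0 f) : mapG chevE6 φ m = m := by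
  obtain ⟨g, -, rfl⟩ := hm
  apply Units.ext
  ext i j
  simp only [coe_mapG, Matrix.map_apply]
  exact fix_f f hφ _

theorem m_single {r : ℕ} (hr : r ∈ [e6p2, e6m2, e6p4, e6m4]) : Xr r (1 : K) ∈ H0 f :=
  ⟨Xr r (1 : ZMod 2), X_single_mem hφ₀ hr (map_one φ₀), by
    rw [mapG_X _ (sys (F := ZMod 2)).toAddRel (sys (F := K)).toAddRel, map_one]⟩

theorem m_pair {rs : ℕ × ℕ} (hr : rs ∈ [(e6p1, e6p6), (e6m1, e6m6), (e6p3, e6p5), (e6m3, e6m5)]) :
    Xr rs.1 (1 : K) * Xr rs.2 (1 : K) ∈ H0 f :=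
  ⟨w2 φ₀ rs.1 rs.2 (1 : ZMod 2), w2_mem hφ₀ hr 1, by
    simp only [w2, map_mul, map_one, mapG_X _ (sys (F := ZMod 2)).toAddRel (sys (F := K)).toAddRel, mul_one]⟩

theorem map_prodA (l : List ℕ) : mapG chevE6 f (prodA sys l) = prodA sys l := by
  induction l with
  | nil => simp [prodA]
  | cons i l ih =>
    have e : prodA (sys (F := ZMod 2)) (i :: l) = A (sys (F := ZMod 2)) i * prodA (sys (F := ZMod 2)) l := by
      simp [prodA]
    have e' : prodA (sys (F := K)) (i :: l) = A (sys (F := K)) i * prodA (sys (F := K)) l := by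
      simp [prodA]
    rw [e, e', map_mul, ih, A, A, mapG_nG f (sys (F := ZMod 2)).toAddRel (sys (F := K)).toAddRel, map_one]

theorem m_Ns : (Ns : GL chevE6.Idx K) ∈ H0 f := by
  obtain ⟨T₀, hρ, hτ⟩ := exists_T φ₀
  have I₀ : Inst sys tbl_chevE6 T₀ Js cl (twistedE6 (ZMod 2) 2) := inst hρ hτ hφ₀2 hφ₀
  have h := I₀.prodA_mem (w := wstar) (by decide)
  rw [wstar_flat] at h
  exact ⟨prodA sys lstar, h, map_prodA f lstar⟩

end Small

theorem cos_eq {G : Type*} [Group G] (A B g y : G) :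
    ((B⁻¹ * g * A)⁻¹) * (B * y * A⁻¹) =
      (A⁻¹ * B * B * A⁻¹) * ((A * ((B * B)⁻¹ * g⁻¹ * (B * B)) * A⁻¹) * (A * y * A⁻¹)) := by
  group

section Main

variable [Fintype K] {φ : K →+* K} {T : Tw (sys (F := K)).toAddRel}
  (hφ : ∀ t, φ t = t ^ 2) (f : ZMod 2 →+* K) (I : Inst sys tbl_chevE6 T Js cl (twistedE6 K 2))
  {χ : ℕ → Kˣ} (hχ : chevE6.IsRootCharacter χ)
  (c46 : (χ 46 : K) = 1) (c25 : (χ 25 : K) = 1) (c39 : (χ 39 : K) = 1) (c32 : (χ 32 : K) = 1)
  (c56 : φ (χ 56 : K) = (χ 36 : K)) (c15 : φ (χ 15 : K) = (χ 35 : K)) (c42 : φ (χ 42 : K) = (χ 37 : K))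
  (c29 : φ (χ 29 : K) = (χ 34 : K)) {ω : K} (hω : ω ≠ 1) (hω0 : ω ≠ 0) (c56' : (χ 56 : K) = ω) (c36' : (χ 36 : K) = ω⁻¹)
  (c42' : (χ 42 : K) = 1) (c37' : (χ 37 : K) = 1)
  (hK3 : ∀ x : K, x ≠ 0 → x ^ 3 = 1)

include hφ I hχ c46 c25 c39 c32 c56 c15 c42 c29 hω hω0 c56' c36' c42' c37' hK3

/-- Two different powers of the diagonal element give different classes. -/
theorem main_non {i j : ℕ} (hij : (4 * i + 2 * j) % 3 ≠ 0) {g : GL chevE6.Idx K} (hg : g ∈ twistedE6 K 2)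
    (h : ∀ m ∈ H0 f, ∃ m' ∈ H0 f, g * (dd χ ^ i * m * (dd χ ^ i)⁻¹) * g⁻¹ = dd χ ^ j * m' * (dd χ ^ j)⁻¹) : False := by
  have h3 : ∀ r, (χ r : K) ^ 3 = 1 := fun r => hK3 _ (χ r).ne_zero
  have hcube : dd χ * dd χ * dd χ = 1 := dd_cube h3
  have hinv : (dd χ)⁻¹ = dd χ * dd χ := inv_eq_of_mul_eq_one_left hcube
  have hδφ : mapG chevE6 φ (dd χ) = (dd χ)⁻¹ := by
    rw [dd_map hφ, hinv]
  have hpow : ∀ k, mapG chevE6 φ (dd χ ^ k) = (dd χ ^ k)⁻¹ := by
    intro k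
    rw [map_pow, hδφ, inv_pow]
  have hinvk : ∀ k, (dd χ ^ k)⁻¹ = dd χ ^ (2 * k) := by
    intro k
    rw [← inv_pow, hinv, ← sq, ← pow_mul]
  have hN := @dd_pow_norm K _ χ hχ φ hφ c46 c25 c39 c32 c56 c15 c42 c29
  have hN' : ∀ (k : ℕ) {y : GL chevE6.Idx K}, y ∈ twistedE6 K 2 → (dd χ ^ k)⁻¹ * y * dd χ ^ k ∈ twistedE6 K 2 := by
    intro k y hy
    have h1 := hN (2 * k) hy
    rw [← hinvk, inv_inv] at h1
    exact h1
  set A := dd χ ^ i with hA
  set B := dd χ ^ j with hB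
  set x := B⁻¹ * g * A with hx
  have hfixH : ∀ {m}, m ∈ H0 f → mapG chevE6 φ m = m := fun hm => H0_fix f hφ hm
  have hcomm : ∀ m ∈ H0 f, Commute (x⁻¹ * mapG chevE6 φ x) m := by
    intro m hm
    obtain ⟨m', hm', e⟩ := h m hm
    have e1 : x * m * x⁻¹ = m' := by
      have : m' = B⁻¹ * (g * (A * m * A⁻¹) * g⁻¹) * B := by
        rw [e]
        group
      rw [this, hx]
      group
    have e2 : mapG chevE6 φ x * m * (mapG chevE6 φ x)⁻¹ = m' := by
      have e3 := congrArg (mapG chevE6 φ) e1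
      rw [map_mul, map_mul, map_inv, hfixH hm, hfixH hm'] at e3
      exact e3
    show x⁻¹ * mapG chevE6 φ x * m = m * (x⁻¹ * mapG chevE6 φ x)
    calc x⁻¹ * mapG chevE6 φ x * m = x⁻¹ * (mapG chevE6 φ x * m * (mapG chevE6 φ x)⁻¹) * mapG chevE6 φ x := by group
      _ = x⁻¹ * (x * m * x⁻¹) * mapG chevE6 φ x := by rw [e2, e1]
      _ = _ := by group
  have hφx : mapG chevE6 φ x = B * mapG chevE6 φ g * A⁻¹ := by
    rw [hx, map_mul, map_mul, map_inv, hB, hA, hpow, hpow, inv_inv]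
  set y := mapG chevE6 φ g with hy
  have hyG : y ∈ twistedE6 K 2 := map_G hφ hg
  have hgam : (A * ((B * B)⁻¹ * g⁻¹ * (B * B)) * A⁻¹) * (A * y * A⁻¹) ∈ twistedE6 K 2 := by
    refine Subgroup.mul_mem _ (hN i ?_) (hN i hyG)
    have e : B * B = dd χ ^ (j + j) := by rw [hB, pow_add]
    rw [e]
    exact hN' _ (Subgroup.inv_mem _ hg)
  have hd : A⁻¹ * B * B * A⁻¹ = dd χ ^ (4 * i + 2 * j) := by
    rw [hA, hB, hinvk, ← pow_add, ← pow_add, ← pow_add]
    congr 1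
    ring
  have hcE : x⁻¹ * mapG chevE6 φ x = dd χ ^ (4 * i + 2 * j) * ((A * ((B * B)⁻¹ * g⁻¹ * (B * B)) * A⁻¹) * (A * y * A⁻¹)) := by
    rw [hφx, hx, cos_eq, hd]
  have ha : ω ^ (4 * i + 2 * j) ≠ 1 := by
    have hω3 := hK3 ω hω0
    rw [pow_eq_pow_mod _ hω3]
    have hlt : (4 * i + 2 * j) % 3 < 3 := Nat.mod_lt _ (by decide)
    generalize (4 * i + 2 * j) % 3 = n at hij hlt
    interval_cases n
    · exact absurd rfl hij
    · simpa using hω
    · intro h2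
      apply hω
      have : ω ^ 3 = ω ^ 2 * ω := by ring
      rw [h2, one_mul] at this
      rw [← this, hω3]
  have m36 : Xr 36 (1 : K) * Xr 56 (1 : K) ∈ H0 f := by
    rw [← (comm_p (a := 56) (b := 36) (by decide +kernel) (by decide +kernel) (by decide) (by decide +kernel) (by decide +kernel) (1 : K) 1).eq]
    exact m_pair f (rs := (56, 36)) (by decide +kernel)
  have m37 : Xr 37 (1 : K) * Xr 42 (1 : K) ∈ H0 f := by
    rw [← (comm_p (a := 42) (b := 37) (by decide +kernel) (by decide +kernel) (by decide) (by decide +kernel) (by decide +kernel) (1 : K) 1).eq]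
    exact m_pair f (rs := (42, 37)) (by decide +kernel)
  refine no_cent I (dd_pow_Sc hχ (4 * i + 2 * j)) (a := ω ^ (4 * i + 2 * j)) ha (pow_ne_zero _ hω0) ?_ ?_ ?_ ?_ ?_ ?_ hK3 hgam
    (S := H0 f) ?_ (m_single f (by decide +kernel)) (m_single f (by decide +kernel)) m36 m37 (m_Ns f)
    (H0_le f hφ (m_Ns f))
  · intro t
    rw [dd_pow_conj hχ _ (by decide +kernel), c46, one_pow, one_mul]
  · intro t
    rw [dd_pow_conj hχ _ (by decide +kernel), c39, one_pow, one_mul]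
  · intro t
    rw [dd_pow_conj hχ _ (by decide +kernel), c42', one_pow, one_mul]
  · intro t
    rw [dd_pow_conj hχ _ (by decide +kernel), c37', one_pow, one_mul]
  · intro t
    rw [dd_pow_conj hχ _ (by decide +kernel), c56']
  · intro t
    rw [dd_pow_conj hχ _ (by decide +kernel), c36', inv_pow]
  · intro m hm
    rw [← hcE]
    exact hcomm m hm

end Main

/-- `²E₆(2)` has three classes of subgroups `F₄(2)`. -/
theorem exists_three [Fintype K] (hK : Fintype.card K = 4) :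
    ∃ H : Fin 3 → Subgroup (Cfsg.Lie.twistedE6 K 2),
      (∀ i, Nonempty ((H i) ≃* Cfsg.Lie.chevF4.group (ZMod 2))) ∧
      (∀ i j, i ≠ j → ∀ g : (Cfsg.Lie.twistedE6 K 2), (H i).map (MulAut.conj g).toMonoidHom ≠ H j) := by
  classical
  have hK2 : Fintype.card K = 2 ^ 2 := by rw [hK]; norm_num
  obtain ⟨φ, T, hφ, hφ2, hρ, hτ, I⟩ := main (K := K) (q := 2) Nat.prime_two.isPrimePow hK2
  have hK3 : ∀ x : K, x ≠ 0 → x ^ 3 = 1 := by
    intro x hx
    have := FiniteField.pow_card_sub_one_eq_one x hx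
    rwa [hK] at this
  have h20 : (2 : K) = 0 := by
    have h1 := map_add φ 1 1
    rw [hφ, map_one, one_add_one_eq_two] at h1
    have h2 : (2 : K) * (2 - 1) = 0 := by linear_combination h1
    rcases mul_eq_zero.1 h2 with h | h
    · exact h
    · exfalso
      have h3 : (2 : K) = 1 := sub_eq_zero.1 h
      have h4 : (1 : K) + 1 = 1 := by rw [one_add_one_eq_two, h3]
      simpa using h4
  haveI : CharP K 2 := CharTwo.of_one_ne_zero_of_two_eq_zero one_ne_zero h20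
  let f : ZMod 2 →+* K := ZMod.castHom (dvd_refl 2) K
  have hf : Function.Injective f := f.injective
  obtain ⟨ω, hω0, hω⟩ : ∃ ω : K, ω ≠ 0 ∧ ω ≠ 1 := by
    have hc : ({0, 1} : Finset K).card < (Finset.univ : Finset K).card := by
      rw [Finset.card_univ, hK]
      exact lt_of_le_of_lt Finset.card_le_two (by norm_num)
    obtain ⟨x, -, hx⟩ := Finset.exists_mem_notMem_of_card_lt_card hc
    refine ⟨x, fun h => hx (by simp [h]), fun h => hx (by simp [h])⟩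
  have hω3 := hK3 ω hω0
  let u : Kˣ := Units.mk0 ω hω0
  let c : ℕ → Kˣ := fun i => if i = 0 then u else if i = 5 then u⁻¹ else 1
  obtain ⟨χ, hχ, hs⟩ := Cfsg.Agent.Lib.ChevAut.exists_char (D := chevE6) (F := K) (by simp) c
  obtain ⟨e0, e1, e2, e3, e4, e5⟩ := e_s
  obtain ⟨n0, n1, n2, n3, n4, n5⟩ := e_n
  have x56 : χ 56 = u := by rw [← e0, hs 0 (by decide)]; rfl
  have x46 : χ 46 = 1 := by rw [← e1, hs 1 (by decide)]; rfl
  have x42 : χ 42 = 1 := by rw [← e2, hs 2 (by decide)]; rfl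
  have x39 : χ 39 = 1 := by rw [← e3, hs 3 (by decide)]; rfl
  have x37 : χ 37 = 1 := by rw [← e4, hs 4 (by decide)]; rfl
  have x36 : χ 36 = u⁻¹ := by rw [← e5, hs 5 (by decide)]; rfl
  have x15 : χ 15 = u⁻¹ := by rw [← n0, hχ.1 56 (by decide +kernel), x56]
  have x25 : χ 25 = 1 := by rw [← n1, hχ.1 46 (by decide +kernel), x46, _root_.inv_one]
  have x29 : χ 29 = 1 := by rw [← n2, hχ.1 42 (by decide +kernel), x42, _root_.inv_one]
  have x32 : χ 32 = 1 := by rw [← n3, hχ.1 39 (by decide +kernel), x39, _root_.inv_one]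
  have x34 : χ 34 = 1 := by rw [← n4, hχ.1 37 (by decide +kernel), x37, _root_.inv_one]
  have x35 : χ 35 = u := by rw [← n5, hχ.1 36 (by decide +kernel), x36, inv_inv]
  have hφω : φ ω = ω⁻¹ := by
    rw [hφ]
    apply eq_inv_of_mul_eq_one_left
    rw [← hω3]
    ring
  have hφω' : φ ω⁻¹ = ω := by
    rw [map_inv₀, hφω, inv_inv]
  have c46 : (χ 46 : K) = 1 := by rw [x46, Units.val_one]
  have c25 : (χ 25 : K) = 1 := by rw [x25, Units.val_one]
  have c39 : (χ 39 : K) = 1 := by rw [x39, Units.val_one]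
  have c32 : (χ 32 : K) = 1 := by rw [x32, Units.val_one]
  have c42' : (χ 42 : K) = 1 := by rw [x42, Units.val_one]
  have c37' : (χ 37 : K) = 1 := by rw [x37, Units.val_one]
  have c56' : (χ 56 : K) = ω := by rw [x56]; rfl
  have c36' : (χ 36 : K) = ω⁻¹ := by rw [x36]; rfl
  have c15' : (χ 15 : K) = ω⁻¹ := by rw [x15]; rfl
  have c35' : (χ 35 : K) = ω := by rw [x35]; rfl
  have c56 : φ (χ 56 : K) = (χ 36 : K) := by rw [c56', c36', hφω]
  have c15 : φ (χ 15 : K) = (χ 35 : K) := by rw [c15', c35', hφω']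
  have c42 : φ (χ 42 : K) = (χ 37 : K) := by rw [c42', c37', map_one]
  have c29 : φ (χ 29 : K) = (χ 34 : K) := by rw [x29, x34, Units.val_one, map_one]
  have hN := @dd_pow_norm K _ χ hχ φ hφ c46 c25 c39 c32 c56 c15 c42 c29
  have hle : ∀ k : ℕ, (H0 f).map (MulAut.conj (dd χ ^ k)).toMonoidHom ≤ twistedE6 K 2 := by
    rintro k _ ⟨m, hm, rfl⟩
    exact hN k (H0_le f hφ hm)
  obtain ⟨e⟩ := iso_F4
  refine ⟨fun i => ((H0 f).map (MulAut.conj (dd χ ^ (i : ℕ))).toMonoidHom).subgroupOf (twistedE6 K 2), ?_, ?_⟩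
  · intro i
    exact ⟨(Subgroup.subgroupOfEquivOfLe (hle i)).trans
      ((Subgroup.equivMapOfInjective (H0 f) _ (MulAut.conj (dd χ ^ (i : ℕ))).injective).symm.trans
        ((Subgroup.equivMapOfInjective (twistedE6 (ZMod 2) 2) (mapG chevE6 f) (mapG_inj f hf)).symm.trans e))⟩
  · intro i j hij g he
    have hij' : (4 * (i : ℕ) + 2 * (j : ℕ)) % 3 ≠ 0 := by
      have h1 := i.2
      have h2 := j.2
      have h3 : (i : ℕ) ≠ j := fun h => hij (Fin.ext h)
      omega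
    refine main_non hφ f I hχ c46 c25 c39 c32 c56 c15 c42 c29 hω hω0 c56' c36' c42' c37' hK3 hij' g.2 ?_
    intro m hm
    let mi : ↥(twistedE6 K 2) := ⟨dd χ ^ (i : ℕ) * m * (dd χ ^ (i : ℕ))⁻¹, hN i (H0_le f hφ hm)⟩
    have h1 : mi ∈ ((H0 f).map (MulAut.conj (dd χ ^ (i : ℕ))).toMonoidHom).subgroupOf (twistedE6 K 2) :=
      Subgroup.mem_subgroupOf.2 ⟨m, hm, rfl⟩
    have h2 : (MulAut.conj g).toMonoidHom mi ∈ ((H0 f).map (MulAut.conj (dd χ ^ (j : ℕ))).toMonoidHom).subgroupOf (twistedE6 K 2) := by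
      have he' := he
      simp only at he'
      rw [← he']
      exact ⟨mi, h1, rfl⟩
    obtain ⟨m', hm', e2⟩ := Subgroup.mem_subgroupOf.1 h2
    exact ⟨m', hm', e2.symm⟩

end Cfsg.Agent.Lib.Tw2E6Sub
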