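import Cfsg.Agent.Lib.Tw2E6Sub.Data
import Cfsg.Agent.Lib.Chevalley.Tbl.F4Sys

/-!
# The subgroup of `²E₆` over the prime field is `F₄(2)`
-/

set_option autoImplicit false
set_option maxRecDepth 1000000
set_option linter.unusedSectionVars false
set_option linter.unusedVariables false
set_option linter.unusedSimpArgs false

namespace Cfsg.Agent.Lib.Tw2E6Sub

open Cfsg.Lie Cfsg.Agent.Lib.Compute.F2Vec
open scoped Matrix
open Cfsg.Agent.Lib.ChevBN.Elem Cfsg.Agent.Lib.ChevBN.Table Cfsg.Agent.Lib.ChevBN.Rel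
open Cfsg.Agent.Lib.ChevBN.FastData Cfsg.Agent.Lib.ChevBN.Fix
open Cfsg.Agent.Lib.ChevOrder.Level
open Cfsg.Agent.Lib.Twisted Cfsg.Agent.Lib.Twisted.E6 Cfsg.Agent.Lib.Tw2E6Max

/-- The embedding of the module of `F₄` in that of `E₆`. -/
def Em : Matrix chevE6.Idx chevF4.Idx (ZMod 2) := Matrix.of fun i j => vec eE (cI (eF j).val) i

theorem Em_mulVec (c : ℕ) : Em *ᵥ vec eF c = vec eE (app cI c 52) := by
  funext i
  rw [vec_app, Finset.sum_apply]
  simp only [Matrix.mulVec, dotProduct]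
  rw [← Fin.sum_univ_eq_sum_range (fun j => (if c.testBit j then vec eE (cI j) else 0) i) 52,
    ← eF.sum_comp]
  apply Finset.sum_congr rfl
  intro j _
  have e : Em i j = vec eE (cI (eF j).val) i := rfl
  rw [e]
  by_cases h : c.testBit (eF j).val = true
  · simp [vec, h]
  · simp [vec, h]

theorem hE (k : Fin 12) : HasCols eE (chevE6.x (ZMod 2) (rE.getD k.val 0) 1) (cE k) := fun i j => by
  rw [X_eqE k]
  rfl

theorem hF (k : Fin 8) : HasCols eF (chevF4.x (ZMod 2) (rF.getD k.val 0) 1) (cF k) := fun i j => by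
  rw [X_eqF k]
  rfl

set_option quotPrecheck false in
/-- The root elements of `E₆`. -/
local notation "Xe" => X (Cfsg.Agent.Lib.Chevalley.Tbl.E6.sys (F := ZMod 2)).toAddRel

set_option quotPrecheck false in
/-- The root elements of `F₄`. -/
local notation "Xf" => X (Cfsg.Agent.Lib.Chevalley.Tbl.F4.sys (F := ZMod 2)).toAddRel

/-- The identity of the prime field. -/
abbrev φ₀ : ZMod 2 →+* ZMod 2 := RingHom.id _

/-- The generators of the big group. -/
noncomputable def aG : Fin 8 → GL chevE6.Idx (ZMod 2) :=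
  ![Xe 46 1, Xe 25 1, Xe 39 1, Xe 32 1, w2 φ₀ 56 36 1, w2 φ₀ 15 35 1, w2 φ₀ 42 37 1, w2 φ₀ 29 34 1]

/-- The generators of `F₄(2)`. -/
noncomputable def bG : Fin 8 → GL chevF4.Idx (ZMod 2) :=
  ![Xf 24 1, Xf 23 1, Xf 25 1, Xf 22 1, Xf 33 1, Xf 14 1, Xf 27 1, Xf 20 1]

theorem act_a (k : Fin 8) (c : ℕ) :
    ((aG k : GL chevE6.Idx (ZMod 2)) : Matrix chevE6.Idx chevE6.Idx (ZMod 2)) *ᵥ vec eE c = vec eE (actE k c) := by
  have w : ∀ (a b : ℕ) (k₁ k₂ : Fin 12), rE.getD k₁.val 0 = a → rE.getD k₂.val 0 = b →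
      ((w2 φ₀ a b 1 : GL chevE6.Idx (ZMod 2)) : Matrix chevE6.Idx chevE6.Idx (ZMod 2)) *ᵥ vec eE c =
        vec eE (app (cE k₁) (app (cE k₂) c 78) 78) := by
    intro a b k₁ k₂ h1 h2
    have e : ((w2 φ₀ a b 1 : GL chevE6.Idx (ZMod 2)) : Matrix chevE6.Idx chevE6.Idx (ZMod 2)) =
        chevE6.x (ZMod 2) (rE.getD k₁.val 0) 1 * chevE6.x (ZMod 2) (rE.getD k₂.val 0) 1 := by
      rw [h1, h2]
      simp [w2, coe_X]
    rw [e, ← Matrix.mulVec_mulVec, mulVec_vec (hE k₂), mulVec_vec (hE k₁)]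
  have s : ∀ (a : ℕ) (k₁ : Fin 12), rE.getD k₁.val 0 = a →
      ((Xe a 1 : GL chevE6.Idx (ZMod 2)) : Matrix chevE6.Idx chevE6.Idx (ZMod 2)) *ᵥ vec eE c =
        vec eE (app (cE k₁) c 78) := by
    intro a k₁ h1
    rw [coe_X, ← h1, mulVec_vec (hE k₁)]
  fin_cases k
  · exact s 46 0 rfl
  · exact s 25 1 rfl
  · exact s 39 2 rfl
  · exact s 32 3 rfl
  · exact w 56 36 4 5 rfl rfl
  · exact w 15 35 6 7 rfl rfl
  · exact w 42 37 8 9 rfl rfl
  · exact w 29 34 10 11 rfl rfl

theorem act_b (k : Fin 8) (j : chevF4.Idx) (i : chevF4.Idx) :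
    ((bG k : GL chevF4.Idx (ZMod 2)) : Matrix chevF4.Idx chevF4.Idx (ZMod 2)) i j = vec eF (cF k (eF j).val) i := by
  have s : ∀ (a : ℕ) (k₁ : Fin 8), rF.getD k₁.val 0 = a →
      ((Xf a 1 : GL chevF4.Idx (ZMod 2)) : Matrix chevF4.Idx chevF4.Idx (ZMod 2)) i j = vec eF (cF k₁ (eF j).val) i := by
    intro a k₁ h1
    rw [coe_X, ← h1]
    exact hF k₁ i j
  fin_cases k
  · exact s 24 0 rfl
  · exact s 23 1 rfl
  · exact s 25 2 rfl
  · exact s 22 3 rfl
  · exact s 33 4 rfl
  · exact s 14 5 rfl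
  · exact s 27 6 rfl
  · exact s 20 7 rfl

theorem inter (k : Fin 8) :
    ((aG k : GL chevE6.Idx (ZMod 2)) : Matrix chevE6.Idx chevE6.Idx (ZMod 2)) * Em =
      Em * ((bG k : GL chevF4.Idx (ZMod 2)) : Matrix chevF4.Idx chevF4.Idx (ZMod 2)) := by
  ext i j
  have h1 : (fun x => Em x j) = vec eE (cI (eF j).val) := rfl
  have h2 : (((aG k : GL chevE6.Idx (ZMod 2)) : Matrix chevE6.Idx chevE6.Idx (ZMod 2)) * Em) i j =
      (((aG k : GL chevE6.Idx (ZMod 2)) : Matrix chevE6.Idx chevE6.Idx (ZMod 2)) *ᵥ (fun x => Em x j)) i := rfl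
  have h3 : (fun x => ((bG k : GL chevF4.Idx (ZMod 2)) : Matrix chevF4.Idx chevF4.Idx (ZMod 2)) x j) =
      vec eF (cF k (eF j).val) := by
    funext x
    exact act_b k j x
  have h4 : (Em * ((bG k : GL chevF4.Idx (ZMod 2)) : Matrix chevF4.Idx chevF4.Idx (ZMod 2))) i j =
      (Em *ᵥ (fun x => ((bG k : GL chevF4.Idx (ZMod 2)) : Matrix chevF4.Idx chevF4.Idx (ZMod 2)) x j)) i := rfl
  rw [h2, h4, h1, h3, act_a, Em_mulVec, inter_chk k (eF j)]

/-- The relation between the two matrix groups. -/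
def RR : Subgroup (GL chevE6.Idx (ZMod 2) × GL chevF4.Idx (ZMod 2)) where
  carrier := {p | ((p.1 : GL chevE6.Idx (ZMod 2)) : Matrix chevE6.Idx chevE6.Idx (ZMod 2)) * Em =
    Em * ((p.2 : GL chevF4.Idx (ZMod 2)) : Matrix chevF4.Idx chevF4.Idx (ZMod 2))}
  mul_mem' := by
    intro p p' hp hp'
    show ((p.1 * p'.1 : GL chevE6.Idx (ZMod 2)) : Matrix chevE6.Idx chevE6.Idx (ZMod 2)) * Em =
      Em * ((p.2 * p'.2 : GL chevF4.Idx (ZMod 2)) : Matrix chevF4.Idx chevF4.Idx (ZMod 2))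
    rw [Units.val_mul, Units.val_mul, Matrix.mul_assoc, hp', ← Matrix.mul_assoc, hp, Matrix.mul_assoc]
  one_mem' := by
    show ((1 : GL chevE6.Idx (ZMod 2)) : Matrix chevE6.Idx chevE6.Idx (ZMod 2)) * Em =
      Em * ((1 : GL chevF4.Idx (ZMod 2)) : Matrix chevF4.Idx chevF4.Idx (ZMod 2))
    simp
  inv_mem' := by
    intro p hp
    have hp2 : ((p.1 : GL chevE6.Idx (ZMod 2)) : Matrix chevE6.Idx chevE6.Idx (ZMod 2)) * Em =
      Em * ((p.2 : GL chevF4.Idx (ZMod 2)) : Matrix chevF4.Idx chevF4.Idx (ZMod 2)) := hp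
    show ((p.1⁻¹ : GL chevE6.Idx (ZMod 2)) : Matrix chevE6.Idx chevE6.Idx (ZMod 2)) * Em =
      Em * ((p.2⁻¹ : GL chevF4.Idx (ZMod 2)) : Matrix chevF4.Idx chevF4.Idx (ZMod 2))
    have e1 : ((p.1⁻¹ : GL chevE6.Idx (ZMod 2)) : Matrix chevE6.Idx chevE6.Idx (ZMod 2)) *
        ((p.1 : GL chevE6.Idx (ZMod 2)) : Matrix chevE6.Idx chevE6.Idx (ZMod 2)) = 1 := by
      rw [← Units.val_mul, inv_mul_cancel, Units.val_one]
    have e2 : ((p.2 : GL chevF4.Idx (ZMod 2)) : Matrix chevF4.Idx chevF4.Idx (ZMod 2)) *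
        ((p.2⁻¹ : GL chevF4.Idx (ZMod 2)) : Matrix chevF4.Idx chevF4.Idx (ZMod 2)) = 1 := by
      rw [← Units.val_mul, mul_inv_cancel, Units.val_one]
    calc ((p.1⁻¹ : GL chevE6.Idx (ZMod 2)) : Matrix chevE6.Idx chevE6.Idx (ZMod 2)) * Em
        = ((p.1⁻¹ : GL chevE6.Idx (ZMod 2)) : Matrix chevE6.Idx chevE6.Idx (ZMod 2)) * Em *
            (((p.2 : GL chevF4.Idx (ZMod 2)) : Matrix chevF4.Idx chevF4.Idx (ZMod 2)) *
              ((p.2⁻¹ : GL chevF4.Idx (ZMod 2)) : Matrix chevF4.Idx chevF4.Idx (ZMod 2))) := by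
          rw [e2, Matrix.mul_one]
      _ = ((p.1⁻¹ : GL chevE6.Idx (ZMod 2)) : Matrix chevE6.Idx chevE6.Idx (ZMod 2)) *
            (Em * ((p.2 : GL chevF4.Idx (ZMod 2)) : Matrix chevF4.Idx chevF4.Idx (ZMod 2))) *
              ((p.2⁻¹ : GL chevF4.Idx (ZMod 2)) : Matrix chevF4.Idx chevF4.Idx (ZMod 2)) := by
          simp only [Matrix.mul_assoc]
      _ = _ := by
          rw [← hp2, ← Matrix.mul_assoc, e1, Matrix.one_mul]

theorem pick_chk : ∀ j' j : Fin 52, (cI j.val).testBit (pickI.getD j'.val 0) = decide (j' = j) := by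
  decide +kernel

theorem pick_lt : ∀ j' : Fin 52, pickI.getD j'.val 0 < 78 := by decide +kernel

/-- A matrix `B` with `E B = E` is the identity. -/
theorem eq_one_of_Em {B : Matrix chevF4.Idx chevF4.Idx (ZMod 2)} (h : Em = Em * B) : B = 1 := by
  let kk : chevF4.Idx → chevE6.Idx := fun j' => eE.symm ⟨pickI.getD (eF j').val 0, pick_lt _⟩
  have hrow : ∀ j' j, Em (kk j') j = if j' = j then 1 else 0 := by
    intro j' j
    have e : Em (kk j') j = vec eE (cI (eF j).val) (kk j') := rfl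
    rw [e, vec]
    simp only [kk, Equiv.apply_symm_apply]
    rw [pick_chk (eF j') (eF j)]
    by_cases h1 : j' = j
    · subst h1
      simp
    · have h2 : eF j' ≠ eF j := fun h3 => h1 (eF.injective h3)
      simp [h1, h2]
  ext j' j
  have h1 := congrFun (congrFun h (kk j')) j
  rw [hrow, Matrix.mul_apply] at h1
  simp only [hrow] at h1
  simp only [ite_mul, one_mul, zero_mul, Finset.sum_ite_eq, Finset.mem_univ, if_true] at h1
  rw [← h1, Matrix.one_apply]

/-- The graph argument. -/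
theorem equiv_of_graph' {A B ι : Type*} [Group A] [Group B] [Finite A] [Finite B] (a : ι → A) (b : ι → B)
    (R : Subgroup (A × B)) (hR : ∀ i, (a i, b i) ∈ R) (h1 : ∀ p ∈ R, p.1 = 1 → p.2 = 1)
    (hc : Nat.card (Subgroup.closure (Set.range a)) = Nat.card (Subgroup.closure (Set.range b))) :
    Nonempty (Subgroup.closure (Set.range a) ≃* Subgroup.closure (Set.range b)) := by
  let Γ : Subgroup (A × B) := Subgroup.closure (Set.range fun i => (a i, b i))
  have hΓ : Γ ≤ R := by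
    rw [Subgroup.closure_le]
    rintro _ ⟨i, rfl⟩
    exact hR i
  have e1 : Γ.map (MonoidHom.fst A B) = Subgroup.closure (Set.range a) := by
    rw [MonoidHom.map_closure, ← Set.range_comp]
    rfl
  have e2 : Γ.map (MonoidHom.snd A B) = Subgroup.closure (Set.range b) := by
    rw [MonoidHom.map_closure, ← Set.range_comp]
    rfl
  have i1 : Function.Injective ((MonoidHom.fst A B).comp Γ.subtype) := by
    rw [injective_iff_map_eq_one]
    intro p hp
    apply Subtype.ext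
    exact Prod.ext hp (h1 p.1 (hΓ p.2) hp)
  have r1 : ((MonoidHom.fst A B).comp Γ.subtype).range = Subgroup.closure (Set.range a) := by
    rw [MonoidHom.range_comp, Subgroup.range_subtype, e1]
  have r2 : ((MonoidHom.snd A B).comp Γ.subtype).range = Subgroup.closure (Set.range b) := by
    rw [MonoidHom.range_comp, Subgroup.range_subtype, e2]
  have hΓc : Nat.card Γ = Nat.card ((MonoidHom.fst A B).comp Γ.subtype).range :=
    Nat.card_congr (MonoidHom.ofInjective i1).toEquiv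
  have i2 : Function.Injective ((MonoidHom.snd A B).comp Γ.subtype) := by
    have hs : Function.Surjective ((MonoidHom.snd A B).comp Γ.subtype).rangeRestrict :=
      MonoidHom.rangeRestrict_surjective _
    have hb : Function.Bijective ((MonoidHom.snd A B).comp Γ.subtype).rangeRestrict := by
      rw [Nat.bijective_iff_surjective_and_card]
      refine ⟨hs, ?_⟩
      rw [hΓc, r1, hc, r2]
    intro x y hxy
    exact hb.1 (Subtype.ext hxy)
  exact ⟨((MulEquiv.subgroupCongr r1).symm.trans (MonoidHom.ofInjective i1).symm).trans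
    ((MonoidHom.ofInjective i2).trans (MulEquiv.subgroupCongr r2))⟩

theorem hφ₀ : ∀ t : ZMod 2, φ₀ t = t ^ 2 := by decide

theorem hφ₀2 : ∀ t : ZMod 2, φ₀ (φ₀ t) = t := fun _ => rfl

theorem closure_a : Subgroup.closure (Set.range aG) = twistedE6 (ZMod 2) 2 := by
  apply le_antisymm
  · rw [Subgroup.closure_le]
    rintro _ ⟨k, rfl⟩
    fin_cases k
    · exact X_single_mem hφ₀ (by decide +kernel) (map_one φ₀)
    · exact X_single_mem hφ₀ (by decide +kernel) (map_one φ₀)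
    · exact X_single_mem hφ₀ (by decide +kernel) (map_one φ₀)
    · exact X_single_mem hφ₀ (by decide +kernel) (map_one φ₀)
    · exact w2_mem hφ₀ (rs := (56, 36)) (by decide +kernel) 1
    · exact w2_mem hφ₀ (rs := (15, 35)) (by decide +kernel) 1
    · exact w2_mem hφ₀ (rs := (42, 37)) (by decide +kernel) 1
    · exact w2_mem hφ₀ (rs := (29, 34)) (by decide +kernel) 1
  · refine (Subgroup.closure_le _).2 ?_
    intro g hg
    have ht : ∀ t : ZMod 2, t = 0 ∨ t = 1 := by decide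
    have hm : ∀ k, aG k ∈ Subgroup.closure (Set.range aG) := fun k => Subgroup.subset_closure ⟨k, rfl⟩
    have h2 : ∀ a b, w2 φ₀ a b (0 : ZMod 2) = 1 := by
      intro a b
      simp [w2, X_zero]
    have m0 : Xe 46 1 ∈ Subgroup.closure (Set.range aG) := hm 0
    have m1 : Xe 25 1 ∈ Subgroup.closure (Set.range aG) := hm 1
    have m2 : Xe 39 1 ∈ Subgroup.closure (Set.range aG) := hm 2
    have m3 : Xe 32 1 ∈ Subgroup.closure (Set.range aG) := hm 3
    have m4 : w2 φ₀ 56 36 1 ∈ Subgroup.closure (Set.range aG) := hm 4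
    have m5 : w2 φ₀ 15 35 1 ∈ Subgroup.closure (Set.range aG) := hm 5
    have m6 : w2 φ₀ 42 37 1 ∈ Subgroup.closure (Set.range aG) := hm 6
    have m7 : w2 φ₀ 29 34 1 ∈ Subgroup.closure (Set.range aG) := hm 7
    have z1 : ∀ r, Xe r 0 ∈ Subgroup.closure (Set.range aG) := fun r => by
      rw [X_zero]
      exact Subgroup.one_mem _
    have z2 : ∀ a b, w2 φ₀ a b 0 ∈ Subgroup.closure (Set.range aG) := fun a b => by
      rw [h2]
      exact Subgroup.one_mem _
    rcases gen_form hφ₀ hg with ⟨t, -, h | h | h | h⟩ | ⟨t, h | h | h | h⟩ <;> rw [h] <;> rcases ht t with rfl | rfl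
    · exact z1 _
    · exact m0
    · exact z1 _
    · exact m1
    · exact z1 _
    · exact m2
    · exact z1 _
    · exact m3
    · exact z2 _ _
    · exact m4
    · exact z2 _ _
    · exact m5
    · exact z2 _ _
    · exact m6
    · exact z2 _ _
    · exact m7

theorem closure_b : Subgroup.closure (Set.range bG) = chevF4.group (ZMod 2) := by
  have hR := Cfsg.Agent.Lib.Chevalley.Tbl.F4.sys (F := ZMod 2)
  apply le_antisymm
  · rw [Subgroup.closure_le]
    rintro _ ⟨k, rfl⟩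
    fin_cases k
    all_goals exact Tw.X_mem_group (hA := (Cfsg.Agent.Lib.Chevalley.Tbl.F4.sys (F := ZMod 2)).toAddRel) (by decide +kernel) 1
  · refine le_trans (Cfsg.Agent.Lib.ChevAut.Isogeny.Cfg.group_le_gen (Cfsg.Agent.Lib.Chevalley.Tbl.F4.sys (F := ZMod 2)) tbl_chevF4) ?_
    refine gen_le (hA := (Cfsg.Agent.Lib.Chevalley.Tbl.F4.sys (F := ZMod 2)).toAddRel) ?_
    intro r hr t
    have ht : ∀ t : ZMod 2, t = 0 ∨ t = 1 := by decide
    have hm : ∀ k, bG k ∈ Subgroup.closure (Set.range bG) := fun k => Subgroup.subset_closure ⟨k, rfl⟩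
    rcases ht t with rfl | rfl
    · rw [X_zero]
      exact Subgroup.one_mem _
    obtain ⟨i, rfl | rfl⟩ := hr
    · have hi : ∀ i : Fin chevF4.rank, chevF4.simple i = 33 ∨ chevF4.simple i = 27 ∨ chevF4.simple i = 25 ∨ chevF4.simple i = 24 := by
        decide +kernel
      rcases hi i with h | h | h | h <;> rw [h]
      · exact hm 4
      · exact hm 6
      · exact hm 2
      · exact hm 0
    · have hi : ∀ i : Fin chevF4.rank, chevF4.neg (chevF4.simple i) = 14 ∨ chevF4.neg (chevF4.simple i) = 20 ∨ chevF4.neg (chevF4.simple i) = 22 ∨ chevF4.neg (chevF4.simple i) = 23 := by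
        decide +kernel
      rcases hi i with h | h | h | h <;> rw [h]
      · exact hm 5
      · exact hm 7
      · exact hm 3
      · exact hm 1

section Card

open Cfsg.Agent.Lib.Chevalley.Tbl.E6 (sys comm)

/-- The order of the group over the prime field. -/
theorem card_G₀ : Nat.card ↥(twistedE6 (ZMod 2) 2) = 2 ^ 24 * (2 ^ 2 - 1) * (2 ^ 6 - 1) * (2 ^ 8 - 1) * (2 ^ 12 - 1) := by
  classical
  obtain ⟨T₀, hρ, hτ⟩ := exists_T φ₀
  have I₀ : Inst sys tbl_chevE6 T₀ Js cl (twistedE6 (ZMod 2) 2) := inst hρ hτ hφ₀2 hφ₀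
  obtain ⟨e0, e1, e2, e3, e4, e5⟩ := e_s
  have hK0 : Fintype.card (ZMod 2) = 2 ^ 1 := by simp
  have hc1 : ∀ i, Nat.card ↥(gen (sys (F := ZMod 2)).toAddRel (psiL chevE6 (Jn i)) ⊓ T₀.Fx) = 2 := by
    intro i
    have hi : i = 0 ∨ i = 1 ∨ i = 2 ∨ i = 3 := by
      revert i
      decide
    rcases hi with rfl | rfl | rfl | rfl
    · show Nat.card ↥(gen (sys (F := ZMod 2)).toAddRel (psiL chevE6 [1]) ⊓ T₀.Fx) = 2
      rw [card1 hρ hτ hφ₀ (le_refl 2) hK0 (by decide) e1 (by decide +kernel) (by decide +kernel) (by decide +kernel)]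
    · show Nat.card ↥(gen (sys (F := ZMod 2)).toAddRel (psiL chevE6 [3]) ⊓ T₀.Fx) = 2
      rw [card1 hρ hτ hφ₀ (le_refl 2) hK0 (by decide) e3 (by decide +kernel) (by decide +kernel) (by decide +kernel)]
    · show Nat.card ↥(gen (sys (F := ZMod 2)).toAddRel (psiL chevE6 [2, 4]) ⊓ T₀.Fx) = 2
      rw [card2 hρ hτ hφ₀2 (by decide) (by decide) e2 e4 (by decide +kernel) (by decide +kernel)
        (by decide +kernel) (by decide +kernel) (by decide +kernel) (by decide +kernel) (by decide +kernel)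
        (by decide +kernel) (by decide +kernel), hK0, pow_one]
    · show Nat.card ↥(gen (sys (F := ZMod 2)).toAddRel (psiL chevE6 [0, 5]) ⊓ T₀.Fx) = 2
      rw [card2 hρ hτ hφ₀2 (by decide) (by decide) e0 e5 (by decide +kernel) (by decide +kernel)
        (by decide +kernel) (by decide +kernel) (by decide +kernel) (by decide +kernel) (by decide +kernel)
        (by decide +kernel) (by decide +kernel), hK0, pow_one]
  have hcard : ∀ i, Nat.card ↥(gen (sys (F := ZMod 2)).toAddRel (psiL chevE6 (Jn i)) ⊓ T₀.Fx) = 2 ^ wxM i := by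
    intro i
    rw [hc1 i]
    have hi : wxM i = 1 := by
      revert i
      decide
    rw [hi, pow_one]
  have hall : ∀ i : Fin 4, i ∈ ((0, a1, tM1) :: rM1 : List (Fin 4 × List ℤ × List WEntry)).map Prod.fst := by decide +kernel
  have h1 := I₀.card_G1 Jn Jn_mem Jn_surj pE pE_mem hcard chM1_chk hall
  have hU : Nat.card ↥(chevE6.posUnipotent (ZMod 2) ⊓ T₀.Fx) = 2 ^ 24 := by
    rw [I₀.U_eq, card_fix_flat sys tbl_chevE6 T₀ cl I₀.clok]
    have key : ∀ L : List (List ℕ), (∀ S ∈ L, S ∈ cl) →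
        (L.map fun S => Nat.card (gen (sys (F := ZMod 2)).toAddRel {r | r ∈ S} ⊓ T₀.Fx : Subgroup (GL chevE6.Idx (ZMod 2)))).prod =
          2 ^ L.length := by
      intro L
      induction L with
      | nil => simp
      | cons S L ih =>
        intro hL
        obtain ⟨w, hw, J₀, hJ₀, hm⟩ := I₀.cert S (hL S (by simp))
        obtain ⟨i, rfl⟩ := Jn_surj J₀ hJ₀
        rw [List.map_cons, List.prod_cons, ih (fun S' hS' => hL S' (by simp [hS'])),
          I₀.class_card (hL S (by simp)) hw hJ₀ hm]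
        have := hc1 i
        rw [List.length_cons, pow_succ, mul_comm]
        congr 1
    rw [key cl fun S hS => hS]
    have hl : cl.length = 24 := by decide +kernel
    rw [hl]
  have hH : Nat.card ↥(chevE6.diagonalSubgroup (ZMod 2) ⊓ twistedE6 (ZMod 2) 2) = 1 := by
    have hbot : chevE6.diagonalSubgroup (ZMod 2) ⊓ twistedE6 (ZMod 2) 2 = ⊥ := by
      rw [eq_bot_iff]
      rintro h ⟨hh, -⟩
      obtain ⟨κ, hκ, hm, -⟩ := Cfsg.Agent.Lib.ChevBN.Torus.exists_of_mem_H sys tbl_chevE6 hh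
      have h1 : ∀ s, κ s = 1 := by
        intro s
        have := hκ s
        have ht : ∀ t : ZMod 2, t ≠ 0 → t = 1 := by decide
        exact ht _ this
      rw [Subgroup.mem_bot]
      apply Units.ext
      rw [hm, Units.val_one]
      simp only [h1]
      exact dgMat_one
    rw [hbot]
    exact Subgroup.card_bot
  rw [h1, hU, hH]
  decide +kernel

end Card

/-- The group over the prime field is `F₄(2)`. -/
theorem iso_F4 : Nonempty (↥(twistedE6 (ZMod 2) 2) ≃* ↥(chevF4.group (ZMod 2))) := by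
  have hc : Nat.card (Subgroup.closure (Set.range aG)) = Nat.card (Subgroup.closure (Set.range bG)) := by
    rw [closure_a, closure_b, card_G₀]
    have h := Cfsg.Agent.Lib.ChevOrder.Cert.F4.order tbl_chevF4 (Cfsg.Agent.Lib.Chevalley.Tbl.F4.sys (F := ZMod 2)) (q := 2) (by simp [Nat.card_eq_fintype_card])
    rw [one_mul] at h
    rw [h]
  obtain ⟨e⟩ := equiv_of_graph' aG bG RR (fun k => inter k) (by
    intro p hp h1
    have hp2 : ((p.1 : GL chevE6.Idx (ZMod 2)) : Matrix chevE6.Idx chevE6.Idx (ZMod 2)) * Em =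
      Em * ((p.2 : GL chevF4.Idx (ZMod 2)) : Matrix chevF4.Idx chevF4.Idx (ZMod 2)) := hp
    rw [h1, Units.val_one, Matrix.one_mul] at hp2
    exact Units.ext (eq_one_of_Em hp2)) hc
  exact ⟨(MulEquiv.subgroupCongr closure_a.symm).trans (e.trans (MulEquiv.subgroupCongr closure_b))⟩

end Cfsg.Agent.Lib.Tw2E6Sub
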